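import Mathlib
import Cfsg.Prelude.Def_LinearParabolics

/-!
# Bruhat decomposition of `GL_n` over a field
-/

set_option autoImplicit false

namespace H45.Bruhat

open Matrix

variable {F : Type*} [Field F] {n : ℕ}

/-- The permutation matrix of `w`, as a homomorphism (sending `e_c` to `e_{w c}`). -/
noncomputable def pm (F : Type*) [Field F] (n : ℕ) : Equiv.Perm (Fin n) →* GL (Fin n) F :=
  MonoidHom.toHomUnits
    { toFun := fun w => (Equiv.Perm.permMatrix F w⁻¹ : Matrix (Fin n) (Fin n) F)
      map_one' := by ext i j; simp [Equiv.Perm.permMatrix, Matrix.one_apply]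
      map_mul' := by
        intro a b
        rw [_root_.mul_inv_rev, Matrix.permMatrix_mul] }

theorem pm_apply (w : Equiv.Perm (Fin n)) (r c : Fin n) :
    (pm F n w : Matrix (Fin n) (Fin n) F) r c = if r = w c then 1 else 0 := by
  change (Equiv.Perm.permMatrix F w⁻¹ : Matrix (Fin n) (Fin n) F) r c = _
  rw [Equiv.Perm.permMatrix, PEquiv.toMatrix_apply]
  have : (c ∈ (Equiv.toPEquiv w⁻¹) r) ↔ r = w c := by
    rw [Equiv.toPEquiv_apply, Option.mem_some_iff]
    constructor
    · intro h; rw [← h]; simp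
    · intro h; rw [h]; simp
  simp only [this]

theorem mul_pm_apply (A : Matrix (Fin n) (Fin n) F) (w : Equiv.Perm (Fin n)) (r c : Fin n) :
    (A * (pm F n w : Matrix (Fin n) (Fin n) F)) r c = A r (w c) := by
  rw [Matrix.mul_apply]
  simp [pm_apply]

/-- Bruhat decomposition. -/
theorem bruhat (g : GL (Fin n) F) : ∃ b ∈ Cfsg.upperTriangularGL n F, ∃ b' ∈ Cfsg.upperTriangularGL n F,
    ∃ w : Equiv.Perm (Fin n), g = b * pm F n w * b' := by
  classical
  let Q : Fin n → ℕ → Prop := fun j k => ∃ v : Fin n → F, (∀ c, j < c → v c = 0) ∧ v j = 1 ∧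
    ∀ r : Fin n, k ≤ r.val → ((g : Matrix (Fin n) (Fin n) F).mulVec v) r = 0
  have hQ : ∀ j, ∃ k, Q j k := by
    intro j
    refine ⟨n, Pi.single j 1, ?_, by simp, ?_⟩
    · intro c hc
      rw [Pi.single_apply, if_neg (ne_of_gt hc)]
    · intro r hr; exact absurd r.isLt (by omega)
  have hle : ∀ j, Nat.find (hQ j) ≤ n := fun j => Nat.find_min' (hQ j) (by
    refine ⟨Pi.single j 1, ?_, by simp, ?_⟩
    · intro c hc
      rw [Pi.single_apply, if_neg (ne_of_gt hc)]
    · intro r hr; exact absurd r.isLt (by omega))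
  choose v hv1 hv2 hv3 using fun j => Nat.find_spec (hQ j)
  have hinj : ∀ u : Fin n → F, (g : Matrix (Fin n) (Fin n) F).mulVec u = 0 → u = 0 := by
    intro u hu
    have h1 : ((g⁻¹ : GL (Fin n) F) : Matrix (Fin n) (Fin n) F).mulVec ((g : Matrix (Fin n) (Fin n) F).mulVec u) = u := by
      rw [Matrix.mulVec_mulVec, ← Units.val_mul, inv_mul_cancel, Units.val_one, Matrix.one_mulVec]
    rw [← h1, hu, Matrix.mulVec_zero]
  have hpos : ∀ j, 0 < Nat.find (hQ j) := by
    intro j
    by_contra h
    have h0 : Nat.find (hQ j) = 0 := by omega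
    have h2 : (g : Matrix (Fin n) (Fin n) F).mulVec (v j) = 0 := by
      funext r
      exact hv3 j r (by omega)
    have h3 := congrFun (hinj _ h2) j
    rw [hv2 j] at h3
    exact one_ne_zero h3
  let r : Fin n → Fin n := fun j => ⟨Nat.find (hQ j) - 1, by have := hle j; have := hpos j; omega⟩
  have hrv : ∀ j, (r j).val + 1 = Nat.find (hQ j) := by
    intro j; have := hpos j; simp only [r]; omega
  have hvz : ∀ j s, r j < s → ((g : Matrix (Fin n) (Fin n) F).mulVec (v j)) s = 0 := by
    intro j s hs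
    apply hv3 j
    have := hrv j
    rw [Fin.lt_def] at hs
    omega
  have hvn : ∀ j, ((g : Matrix (Fin n) (Fin n) F).mulVec (v j)) (r j) ≠ 0 := by
    intro j h0
    have h1 : Q j (r j).val := by
      refine ⟨v j, hv1 j, hv2 j, ?_⟩
      intro s hs
      rcases eq_or_lt_of_le hs with h | h
      · rw [← Fin.ext h]; exact h0
      · exact hvz j s (Fin.lt_def.2 h)
    have h2 := Nat.find_min' (hQ j) h1
    have := hrv j
    omega
  have hrinj : Function.Injective r := by
    have key : ∀ j j', j < j' → r j ≠ r j' := by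
      intro j j' hjj h
      set a : F := ((g : Matrix (Fin n) (Fin n) F).mulVec (v j')) (r j') / ((g : Matrix (Fin n) (Fin n) F).mulVec (v j)) (r j) with ha
      have h1 : Q j' (r j').val := by
        refine ⟨v j' - a • v j, ?_, ?_, ?_⟩
        · intro c hc
          rw [Pi.sub_apply, Pi.smul_apply, hv1 j' c hc, hv1 j c (lt_trans hjj hc)]
          simp
        · rw [Pi.sub_apply, Pi.smul_apply, hv2 j', hv1 j j' hjj]
          simp
        · intro s hs
          rw [Matrix.mulVec_sub, Matrix.mulVec_smul, Pi.sub_apply, Pi.smul_apply]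
          rcases eq_or_lt_of_le hs with h' | h'
          · rw [← Fin.ext h', ha, h, smul_eq_mul, div_mul_cancel₀ _ (h ▸ hvn j), sub_self]
          · rw [hvz j' s (Fin.lt_def.2 h'), hvz j s (by rw [h]; exact Fin.lt_def.2 h')]
            simp
      have h2 := Nat.find_min' (hQ j') h1
      have := hrv j'
      omega
    intro j j' h
    rcases lt_trichotomy j j' with h1 | h1 | h1
    · exact absurd h (key _ _ h1)
    · exact h1
    · exact absurd h.symm (key _ _ h1)
  let w : Equiv.Perm (Fin n) := Equiv.ofBijective r ⟨hrinj, Finite.surjective_of_injective hrinj⟩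
  have hw : ∀ j, w j = r j := fun j => rfl
  let B : Matrix (Fin n) (Fin n) F := Matrix.of fun i j => v j i
  have hBt : B.BlockTriangular id := by
    intro i j hij
    exact hv1 j i hij
  have hdet : B.det = 1 := by
    rw [Matrix.det_of_isUpperTriangular hBt]
    exact Finset.prod_eq_one fun i _ => hv2 i
  let b₁ : GL (Fin n) F := Matrix.GeneralLinearGroup.mkOfDetNeZero B (by rw [hdet]; exact one_ne_zero)
  have hb₁ : (b₁ : Matrix (Fin n) (Fin n) F) = B := rfl
  have hb₁m : b₁ ∈ Cfsg.upperTriangularGL n F := hBt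
  refine ⟨g * b₁ * (pm F n w)⁻¹, ?_, b₁⁻¹, inv_mem hb₁m, w, by group⟩
  rw [← map_inv]
  change ((g * b₁ * pm F n w⁻¹ : GL (Fin n) F) : Matrix (Fin n) (Fin n) F).BlockTriangular id
  intro i j hij
  rw [Units.val_mul, mul_pm_apply, Units.val_mul, hb₁, Matrix.mul_apply]
  have h1 := hvz (w⁻¹ j) i (by
    rw [← hw]
    have : w (w⁻¹ j) = j := by simp
    rw [this]; exact hij)
  rw [Matrix.mulVec, dotProduct] at h1
  exact h1

end H45.Bruhat
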