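import Cfsg.Agent.Lib.H45.Gen2B
import Cfsg.Agent.Lib.H22.ChevRC

/-!
Generation of Chevalley groups by two elements: the tables.
-/

set_option autoImplicit false

namespace H45.Gen2

open H22.RGD H22.Coord H22.RCCheck H22.RCComb H22.ChevTri H22.ChevRel H22.ChevSys H22.ChevMain
open Cfsg.Lie (ChevalleyDatum)


theorem g3G2 {F : Type*} [Field F] [Finite F] (R : Rel Cfsg.Lie.chevG2 F) (X : RCX Cfsg.Lie.chevG2)
    (hF : ∃ x : F, x ≠ 0 ∧ x ≠ 1) :
    ∃ a b : Cfsg.Lie.chevG2.group F, Subgroup.closure ({a, b} : Set (Cfsg.Lie.chevG2.group F)) = ⊤ :=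
  gen3 R X hF (i := 1) (β := 10) (α := 2) (γ := 11) (w := [1, 0])
    (L := [.w 0 10, .h 0 2, .w 0 5, .h 0 4, .w 0 0, .h 0 8, .w 0 1, .h 0 9, .t 1 4, .t 1 7])
    (by decide +kernel) (by decide +kernel) (by decide +kernel) (by decide +kernel)
    (by decide +kernel) (by decide +kernel) (by decide +kernel) (by decide +kernel)
    (by decide +kernel) (by decide +kernel)


theorem g3B2 {F : Type*} [Field F] [Finite F] (R : Rel Cfsg.Lie.chevB2 F) (X : RCX Cfsg.Lie.chevB2)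
    (hF : ∃ x : F, x ≠ 0 ∧ x ≠ 1) :
    ∃ a b : Cfsg.Lie.chevB2.group F, Subgroup.closure ({a, b} : Set (Cfsg.Lie.chevB2.group F)) = ⊤ :=
  gen3 R X hF (i := 1) (β := 5) (α := 0) (γ := 6) (w := [1, 0])
    (L := [.w 0 5, .h 0 0, .w 0 1, .h 0 4, .t 0 4, .t 0 7, .w 0 7])
    (by decide +kernel) (by decide +kernel) (by decide +kernel) (by decide +kernel)
    (by decide +kernel) (by decide +kernel) (by decide +kernel) (by decide +kernel)
    (by decide +kernel) (by decide +kernel)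


theorem g3D4 {F : Type*} [Field F] [Finite F] (R : Rel Cfsg.Lie.chevD4 F) (X : RCX Cfsg.Lie.chevD4)
    (hF : ∃ x : F, x ≠ 0 ∧ x ≠ 1) :
    ∃ a b : Cfsg.Lie.chevD4.group F, Subgroup.closure ({a, b} : Set (Cfsg.Lie.chevD4.group F)) = ⊤ :=
  gen3 R X hF (i := 2) (β := 8) (α := 12) (γ := 1) (w := [2, 1, 0])
    (L := [.w 0 8, .h 0 12, .a 8 12, .a 8 17, .a 1 13, .a 1 17, .w 0 13, .w 0 3, .w 0 5, .t 1 12, .w 0 14, .w 0 21])
    (by decide +kernel) (by decide +kernel) (by decide +kernel) (by decide +kernel)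
    (by decide +kernel) (by decide +kernel) (by decide +kernel) (by decide +kernel)
    (by decide +kernel) (by decide +kernel)


theorem g3F4 {F : Type*} [Field F] [Finite F] (R : Rel Cfsg.Lie.chevF4 F) (X : RCX Cfsg.Lie.chevF4)
    (hF : ∃ x : F, x ≠ 0 ∧ x ≠ 1) :
    ∃ a b : Cfsg.Lie.chevF4.group F, Subgroup.closure ({a, b} : Set (Cfsg.Lie.chevF4.group F)) = ⊤ :=
  gen3 R X hF (i := 0) (β := 27) (α := 25) (γ := 36) (w := [2, 3, 1, 2, 1, 0])
    (L := [.w 0 27, .h 0 25, .a 27 35, .w 0 35, .w 0 37, .h 0 24, .w 0 19, .h 0 30, .w 0 11, .h 0 43, .t 1 25, .t 1 22, .t 2 24, .w 0 20, .w 0 22, .r 2 12, .a 27 13])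
    (by decide +kernel) (by decide +kernel) (by decide +kernel) (by decide +kernel)
    (by decide +kernel) (by decide +kernel) (by decide +kernel) (by decide +kernel)
    (by decide +kernel) (by decide +kernel)


theorem g3E6 {F : Type*} [Field F] [Finite F] (R : Rel Cfsg.Lie.chevE6 F) (X : RCX Cfsg.Lie.chevE6)
    (hF : ∃ x : F, x ≠ 0 ∧ x ≠ 1) :
    ∃ a b : Cfsg.Lie.chevE6.group F, Subgroup.closure ({a, b} : Set (Cfsg.Lie.chevE6.group F)) = ⊤ :=
  gen3 R X hF (i := 2) (β := 47) (α := 11) (γ := 45) (w := [0, 4, 2, 5, 1])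
    (L := [.w 0 47, .h 0 11, .a 47 21, .a 59 11, .w 0 59, .w 0 29, .w 0 35, .h 0 21, .a 29 57, .a 29 31, .a 35 38, .a 35 27, .a 35 31, .a 52 26, .a 38 30, .w 0 52, .w 0 57, .w 0 38, .w 0 56, .w 0 37, .w 0 46])
    (by decide +kernel) (by decide +kernel) (by decide +kernel) (by decide +kernel)
    (by decide +kernel) (by decide +kernel) (by decide +kernel) (by decide +kernel)
    (by decide +kernel) (by decide +kernel)


theorem g3E7 {F : Type*} [Field F] [Finite F] (R : Rel Cfsg.Lie.chevE7 F) (X : RCX Cfsg.Lie.chevE7)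
    (hF : ∃ x : F, x ≠ 0 ∧ x ≠ 1) :
    ∃ a b : Cfsg.Lie.chevE7.group F, Subgroup.closure ({a, b} : Set (Cfsg.Lie.chevE7.group F)) = ⊤ :=
  gen3 R X hF (i := 4) (β := 110) (α := 48) (γ := 91) (w := [4, 5, 1, 2, 0, 6])
    (L := [.h 0 48, .a 110 26, .w 0 76, .h 0 26, .a 76 48, .a 102 62, .a 102 26, .w 0 102, .w 0 68, .h 0 55, .a 76 40, .a 62 68, .a 101 40, .a 68 48, .a 69 51, .a 59 67, .a 59 26, .w 0 59, .w 0 47, .w 0 52, .w 0 64, .w 0 25, .r 5 67, .r 6 54, .a 76 54, .a 68 53])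
    (by decide +kernel) (by decide +kernel) (by decide +kernel) (by decide +kernel)
    (by decide +kernel) (by decide +kernel) (by decide +kernel) (by decide +kernel)
    (by decide +kernel) (by decide +kernel)


theorem g3E8 {F : Type*} [Field F] [Finite F] (R : Rel Cfsg.Lie.chevE8 F) (X : RCX Cfsg.Lie.chevE8)
    (hF : ∃ x : F, x ≠ 0 ∧ x ≠ 1) :
    ∃ a b : Cfsg.Lie.chevE8.group F, Subgroup.closure ({a, b} : Set (Cfsg.Lie.chevE8.group F)) = ⊤ :=
  gen3 R X hF (i := 2) (β := 46) (α := 170) (γ := 58) (w := [6, 6, 0, 5, 2, 6, 4, 7, 1])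
    (L := [.w 0 46, .h 0 170, .w 0 81, .h 0 136, .a 65 170, .w 0 109, .h 0 144, .a 46 167, .a 109 136, .a 68 170, .a 68 144, .w 0 88, .w 0 116, .w 0 76, .a 135 76, .a 116 144, .a 76 162, .a 76 167, .a 108 143, .a 108 133, .a 111 133, .a 111 124, .w 0 111, .w 0 141, .w 0 124, .w 0 113, .r 1 143, .r 3 131, .r 4 111, .r 4 129, .r 4 127, .r 5 124, .r 5 115, .r 5 125, .r 6 117, .r 6 122])
    (by decide +kernel) (by decide +kernel) (by decide +kernel) (by decide +kernel)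
    (by decide +kernel) (by decide +kernel) (by decide +kernel) (by decide +kernel)
    (by decide +kernel) (by decide +kernel)


theorem g2F4 {F : Type*} [Field F] [Finite F] (R : Rel Cfsg.Lie.chevF4 F) (X : RCX Cfsg.Lie.chevF4)
    (hF : ∀ x : F, x = 0 ∨ x = 1) :
    ∃ a b : Cfsg.Lie.chevF4.group F, Subgroup.closure ({a, b} : Set (Cfsg.Lie.chevF4.group F)) = ⊤ :=
  gen2 R X hF (α := 14) (β := 24) (v := [2, 3]) (w := [1, 0]) (mv := 1) (mw := 1)
    (L := [.w 0 24, .w 1 14, .a 14 34, .a 24 21, .w 0 21, .w 0 22, .w 1 34, .w 1 27])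
    (by decide +kernel) (by decide +kernel) (by decide +kernel) (by decide +kernel)
    (by decide +kernel) (by decide +kernel) (by decide +kernel) (by decide +kernel)
    (by decide +kernel)


theorem g2E6 {F : Type*} [Field F] [Finite F] (R : Rel Cfsg.Lie.chevE6 F) (X : RCX Cfsg.Lie.chevE6)
    (hF : ∀ x : F, x = 0 ∨ x = 1) :
    ∃ a b : Cfsg.Lie.chevE6.group F, Subgroup.closure ({a, b} : Set (Cfsg.Lie.chevE6.group F)) = ⊤ :=
  gen2 R X hF (α := 25) (β := 36) (v := [4, 5]) (w := [1, 0, 3, 0, 2, 0]) (mv := 1) (mw := 2)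
    (L := [.w 0 36, .w 1 25, .a 36 33, .w 0 33, .w 0 34, .w 1 32, .w 1 37, .r 4 48, .a 25 47, .a 32 47, .w 1 29, .w 1 39, .w 1 42])
    (by decide +kernel) (by decide +kernel) (by decide +kernel) (by decide +kernel)
    (by decide +kernel) (by decide +kernel) (by decide +kernel) (by decide +kernel)
    (by decide +kernel)


theorem g2E7 {F : Type*} [Field F] [Finite F] (R : Rel Cfsg.Lie.chevE7 F) (X : RCX Cfsg.Lie.chevE7)
    (hF : ∀ x : F, x = 0 ∨ x = 1) :
    ∃ a b : Cfsg.Lie.chevE7.group F, Subgroup.closure ({a, b} : Set (Cfsg.Lie.chevE7.group F)) = ⊤ :=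
  gen2 R X hF (α := 0) (β := 63) (v := [5, 1, 3, 6]) (w := [3, 2, 0, 4]) (mv := 1) (mw := 2)
    (L := [.w 0 63, .w 1 60, .a 63 60, .a 63 53, .w 0 60, .w 0 53, .w 0 61, .w 1 53, .w 1 64, .w 1 59, .r 5 54, .r 6 71, .a 59 70, .a 48 72, .w 0 59, .w 0 72, .w 0 69, .w 1 70, .w 1 52, .r 4 55, .a 71 44, .w 0 46, .w 1 73])
    (by decide +kernel) (by decide +kernel) (by decide +kernel) (by decide +kernel)
    (by decide +kernel) (by decide +kernel) (by decide +kernel) (by decide +kernel)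
    (by decide +kernel)


theorem g2E8 {F : Type*} [Field F] [Finite F] (R : Rel Cfsg.Lie.chevE8 F) (X : RCX Cfsg.Lie.chevE8)
    (hF : ∀ x : F, x = 0 ∨ x = 1) :
    ∃ a b : Cfsg.Lie.chevE8.group F, Subgroup.closure ({a, b} : Set (Cfsg.Lie.chevE8.group F)) = ⊤ :=
  gen2 R X hF (α := 162) (β := 120) (v := [4, 3, 3, 5, 4, 7, 5, 3, 6, 1]) (w := [4, 2, 0, 7, 7, 5]) (mv := 3) (mw := 1)
    (L := [.w 0 120, .w 1 162, .w 1 124, .a 162 76, .a 120 121, .w 0 124, .w 0 76, .w 0 121, .w 0 122, .w 1 76, .w 1 104, .w 1 126, .w 1 73, .w 1 114, .r 7 114, .r 7 117, .a 121 115, .w 0 126, .w 0 109, .w 0 115, .w 0 130])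
    (by decide +kernel) (by decide +kernel) (by decide +kernel) (by decide +kernel)
    (by decide +kernel) (by decide +kernel) (by decide +kernel) (by decide +kernel)
    (by decide +kernel)


theorem g2D4 {F : Type*} [Field F] [Finite F] (R : Rel Cfsg.Lie.chevD4 F) (X : RCX Cfsg.Lie.chevD4)
    (hF : ∀ x : F, x = 0 ∨ x = 1) :
    ∃ a b : Cfsg.Lie.chevD4.group F, Subgroup.closure ({a, b} : Set (Cfsg.Lie.chevD4.group F)) = ⊤ :=
  genD R X hF (α := 11) (i := 0) (ε := 7) (k := 2) (m := -1) (w := [3, 2, 1, 0])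
    (L := [.w 0 11, .w 0 2, .a 11 2, .a 7 13, .a 13 1, .w 0 13, .w 0 9, .w 0 3, .r 3 15, .a 7 14, .w 0 14])
    (by decide +kernel) (by decide +kernel) (by decide +kernel) (by decide +kernel)
    (by decide +kernel) (by decide +kernel) (by decide +kernel) (by decide +kernel)
    (by decide +kernel) (by decide +kernel) (by decide +kernel) (by decide +kernel)
    (by decide +kernel) (by decide +kernel) (by decide +kernel) (by decide +kernel)
    (by decide +kernel) (by decide +kernel) (by decide +kernel) (by decide +kernel)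

end H45.Gen2
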